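import Groth.Agent.L20.ResDescent
import Groth.Agent.L17.ClosedPush
import Groth.Agent.L17.ChangeRings
import Groth.Agent.L18.AffineApps
import Groth.Agent.L29.DCoh.Flat
import Groth.Agent.L12.LineLift.IdealKer
import Groth.Agent.L16.HomSh.Adjunction
import Groth.Agent.L14.LocHilb.Lift.PushHom
import Groth.Agent.S12483
import Groth.Agent.L22.PDual.ExtSheafHom
import Mathlib.Algebra.Homology.DerivedCategory.Ext.ExactSequences

/-! Finite locally free modules along a closed immersion: the restriction sequence and lifting of homomorphisms. -/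

set_option autoImplicit false
set_option linter.style.haveILetI false
set_option backward.isDefEq.respectTransparency.types false
set_option backward.isDefEq.respectTransparency false

universe u

open CategoryTheory CategoryTheory.Limits AlgebraicGeometry TopologicalSpace Opposite
open scoped TensorProduct

noncomputable section

namespace Groth.L12.VBLift

open Groth.L00.Tensor (pre tensorMap tensorLeftF tensorUnitRight tensorIso tensorComm)
open Groth.L16.HomSh (hom_ext_tens tensorMap_tens)
open Groth.L18.GenLoc (tens)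
open Groth.L00.PullStalk (push_smul)

variable {X X₀ : Scheme.{u}} (i : X₀ ⟶ X) [IsClosedImmersion i]

/-- The unit of pullback and pushforward. -/
abbrev eta (F : X.Modules) : F ⟶ (Scheme.Modules.pushforward i).obj ((Scheme.Modules.pullback i).obj F) :=
  (Scheme.Modules.pullbackPushforwardAdjunction i).unit.app F

/-- A homomorphism of restrictions lifts when the first Ext into the kernel of restriction vanishes. -/
theorem exists_hom_lift [HasExt.{u} X.Modules] {E F : X.Modules} [Epi (eta i F)] {K : X.Modules} (κ : K ⟶ F)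
    (w : κ ≫ eta i F = 0) (hS : (ShortComplex.mk κ (eta i F) w).ShortExact)
    (h : Subsingleton (Abelian.Ext.{u} E K 1))
    (v : (Scheme.Modules.pullback i).obj E ⟶ (Scheme.Modules.pullback i).obj F) :
    ∃ u : E ⟶ F, (Scheme.Modules.pullback i).map u = v := by
  let adj := Scheme.Modules.pullbackPushforwardAdjunction i
  let v' := adj.homEquiv E _ v
  obtain ⟨z, hz⟩ := Abelian.Ext.covariant_sequence_exact₃ E hS (Abelian.Ext.mk₀ v') (zero_add 1)
    (Subsingleton.elim _ _)
  obtain ⟨u, rfl⟩ := (Abelian.Ext.mk₀_bijective E F).2 z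
  rw [Abelian.Ext.mk₀_comp_mk₀] at hz
  have hu : u ≫ eta i F = v' := (Abelian.Ext.mk₀_bijective E _).1 hz
  refine ⟨u, (adj.homEquiv E _).injective ?_⟩
  rw [Adjunction.homEquiv_unit]
  exact (adj.unit.naturality u).symm.trans hu

omit [IsClosedImmersion i] in
theorem ψ_restrict (F : X.Modules) :
    tensorMap (𝟙 F) (ClSub.unitToPush i) ≫ Groth.L20.ResDescent.ψ i F =
      (tensorUnitRight F).hom ≫ eta i F := by
  refine hom_ext_tens fun W m r => ?_
  have e : ((Scheme.Modules.pushforward i).map
      (tensorUnitRight ((Scheme.Modules.pullback i).obj F)).hom).app W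
      ((Groth.L17.ClosedPush.θ i (Coh.structureModule X₀) F).app W
        ((tensorMap (𝟙 F) (ClSub.unitToPush i)).app W (tens F (Coh.structureModule X) W m r))) =
      (eta i F).app W ((tensorUnitRight F).hom.app W (tens F (Coh.structureModule X) W m r)) := by
    rw [tensorMap_tens]
    refine (congrArg _ (Groth.L17.ClosedPush.θ_app i (Coh.structureModule X₀) F W _ _)).trans ?_
    refine (Groth.L20.ResDescent.tensorUnitRight_app ((Scheme.Modules.pullback i).obj F) (i ⁻¹ᵁ W)
      ((eta i F).app W m) (i.app W r)).trans ?_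
    refine Eq.trans ?_ (congrArg ((eta i F).app W) (Groth.L20.ResDescent.tensorUnitRight_app F W m r)).symm
    exact ((Scheme.Modules.Hom.app_smul (eta i F) _ _).trans (Groth.L00.PullStalk.push_smul i _ W _ _)).symm
  exact e

/-- The restriction sequence of a flat module along the closed subscheme. -/
theorem exists_restrict_seq' (I : X.IdealSheafData) (F : X.Modules) (hF : FlatMod.IsFlat F) :
    ∃ (κ : CohB1.tensorMod F (ClSub.idealMod I) ⟶ F) (w : κ ≫ eta I.subschemeι F = 0),
      (ShortComplex.mk κ (eta I.subschemeι F) w).ShortExact ∧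
        κ = tensorMap (𝟙 F) (ClSub.idealModι I) ≫ (tensorUnitRight F).hom := by
  haveI := Groth.L18.AffineCrit.epi_toSubscheme I
  haveI := Groth.L17.ChangeRings.preservesMono_tensorLeftF hF
  let T := tensorLeftF F
  let S₀ := ShortComplex.mk (ClSub.idealModι I) (ClSub.toSubscheme I) (kernel.condition _)
  haveI : Mono S₀.f := inferInstanceAs (Mono (kernel.ι (ClSub.toSubscheme I)))
  have hS₀ : S₀.ShortExact := { exact := ShortComplex.exact_of_f_is_kernel _ (kernelIsKernel _) }
  haveI : T.IsLeftAdjoint := (Groth.L16.HomSh.tensorHomAdj F).isLeftAdjoint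
  haveI : T.Additive :=
    haveI := preservesBinaryBiproducts_of_preservesBinaryCoproducts T
    Functor.additive_of_preservesBinaryBiproducts _
  have hS₁ : (S₀.map T).ShortExact :=
    { exact := ShortComplex.exact_of_g_is_cokernel _
        (CokernelCofork.mapIsColimit _ hS₀.gIsCokernel T)
      mono_f := T.map_mono S₀.f
      epi_g := T.map_epi (ClSub.toSubscheme I) }
  haveI := Groth.L17.ClosedPush.isIso_θ I.subschemeι (Coh.structureModule I.subscheme) F
  haveI : IsIso (Groth.L20.ResDescent.ψ I.subschemeι F) := by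
    rw [Groth.L20.ResDescent.ψ]
    infer_instance
  let κ : CohB1.tensorMod F (ClSub.idealMod I) ⟶ F :=
    tensorMap (𝟙 F) (ClSub.idealModι I) ≫ (tensorUnitRight F).hom
  have w : κ ≫ eta I.subschemeι F = 0 := by
    refine (Category.assoc _ _ _).trans ?_
    rw [← ψ_restrict, ← Category.assoc]
    exact (congrArg (· ≫ Groth.L20.ResDescent.ψ I.subschemeι F) (S₀.map T).zero).trans zero_comp
  refine ⟨κ, w, ShortComplex.shortExact_of_iso (S₁ := S₀.map T) ?_ hS₁, rfl⟩
  exact ShortComplex.isoMk (Iso.refl _) (tensorUnitRight F) (asIso (Groth.L20.ResDescent.ψ I.subschemeι F))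
    ((Category.id_comp _).trans rfl) (ψ_restrict I.subschemeι F).symm

theorem exists_restrict_seq (I : X.IdealSheafData) (F : X.Modules) (hF : FlatMod.IsFlat F) :
    ∃ (κ : CohB1.tensorMod F (ClSub.idealMod I) ⟶ F) (w : κ ≫ eta I.subschemeι F = 0),
      (ShortComplex.mk κ (eta I.subschemeι F) w).ShortExact :=
  let ⟨κ, w, h, _⟩ := exists_restrict_seq' I F hF
  ⟨κ, w, h⟩

/-- The kernel of restriction is supported on the subscheme. -/
theorem nonempty_idealTerm_iso (I : X.IdealSheafData) (hI : I ^ 2 = ⊥) (F : X.Modules) :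
    Nonempty ((Scheme.Modules.pushforward I.subschemeι).obj
      (CohB1.tensorMod ((Scheme.Modules.pullback I.subschemeι).obj (ClSub.idealMod I))
        ((Scheme.Modules.pullback I.subschemeι).obj F)) ≅ CohB1.tensorMod F (ClSub.idealMod I)) := by
  let I₀ := (Scheme.Modules.pullback I.subschemeι).obj (ClSub.idealMod I)
  haveI := Groth.L17.KilledUnit.isIso_of_killed I.subschemeι (ClSub.idealMod I)
    (Groth.L12.LineLift.killed_idealMod I hI)
  haveI := Groth.L17.ClosedPush.isIso_θ I.subschemeι I₀ F
  exact ⟨(Scheme.Modules.pushforward I.subschemeι).mapIso (tensorComm _ _) ≪≫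
    (asIso (Groth.L17.ClosedPush.θ I.subschemeι I₀ F)).symm ≪≫
      tensorIso (Iso.refl F) (asIso (eta I.subschemeι (ClSub.idealMod I))).symm⟩

theorem tensorMap_zero_left {M N P : X.Modules} (b : N ⟶ P) :
    tensorMap (0 : M ⟶ M) b = 0 := by
  refine hom_ext_tens fun W m n => ?_
  rw [tensorMap_tens]
  show tens M P W 0 (b.app W n) = 0
  refine add_left_cancel (a := tens M P W 0 (b.app W n)) ?_
  rw [← Groth.L16.HomSh.tens_add_left, add_zero, add_zero]

/-- An endomorphism of a flat module which is the identity on a square zero subscheme is invertible. -/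
theorem isIso_of_pullback_eq_id (I : X.IdealSheafData) (hI : I ^ 2 = ⊥) {F : X.Modules} (hF : FlatMod.IsFlat F)
    (q : F ⟶ F) (hq : (Scheme.Modules.pullback I.subschemeι).map q = 𝟙 _) : IsIso q := by
  let i := I.subschemeι
  haveI : (Scheme.Modules.pullback i).Additive :=
    (Scheme.Modules.pullbackPushforwardAdjunction i).left_adjoint_additive
  let δ := q - 𝟙 F
  have hδ : (Scheme.Modules.pullback i).map δ = 0 := by
    show (Scheme.Modules.pullback i).map (q - 𝟙 F) = 0
    rw [Functor.map_sub, hq, CategoryTheory.Functor.map_id]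
    exact sub_self _
  haveI := Groth.L18.AffineCrit.epi_toSubscheme I
  haveI := Groth.L17.ChangeRings.preservesMono_tensorLeftF hF
  have hI' : tensorMap δ (𝟙 (ClSub.idealMod I)) = 0 := by
    haveI := Groth.L17.KilledUnit.isIso_of_killed i (ClSub.idealMod I)
      (Groth.L12.LineLift.killed_idealMod I hI)
    let I₀ := (Scheme.Modules.pullback i).obj (ClSub.idealMod I)
    haveI := Groth.L17.ClosedPush.isIso_θ i I₀ F
    have h0 : tensorMap δ (𝟙 ((Scheme.Modules.pushforward i).obj I₀)) = 0 := by
      rw [← cancel_mono (Groth.L17.ClosedPush.θ i I₀ F), Groth.L17.ClosedPush.θ_natural i I₀ δ, zero_comp, hδ,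
        tensorMap_zero_left, Functor.map_zero, comp_zero]
    haveI : IsIso (tensorMap (𝟙 F) (eta i (ClSub.idealMod I))) :=
      inferInstanceAs (IsIso ((tensorLeftF F).map (eta i (ClSub.idealMod I))))
    rw [← cancel_mono (tensorMap (𝟙 F) (eta i (ClSub.idealMod I))), zero_comp,
      ← Groth.L00.Tensor.tensorMap_comp, Category.comp_id, Category.id_comp,
      show tensorMap δ (eta i (ClSub.idealMod I)) =
        tensorMap (𝟙 F) (eta i (ClSub.idealMod I)) ≫ tensorMap δ (𝟙 _) from by
          rw [← Groth.L00.Tensor.tensorMap_comp, Category.id_comp, Category.comp_id], h0, comp_zero]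
  let κ' : CohB1.tensorMod F (ClSub.idealMod I) ⟶ F :=
    tensorMap (𝟙 F) (ClSub.idealModι I) ≫ (tensorUnitRight F).hom
  have hκ : κ' ≫ δ = 0 := by
    rw [show κ' ≫ δ = tensorMap (𝟙 F) (ClSub.idealModι I) ≫
      tensorMap δ (𝟙 (Coh.structureModule X)) ≫ (tensorUnitRight F).hom from by
        rw [Groth.L20.ResDescent.tensorUnitRight_natural]; exact Category.assoc _ _ _,
      ← Category.assoc, ← Groth.L00.Tensor.tensorMap_comp, Category.id_comp, Category.comp_id,
      show tensorMap δ (ClSub.idealModι I) = tensorMap δ (𝟙 _) ≫ tensorMap (𝟙 F) (ClSub.idealModι I) from by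
        rw [← Groth.L00.Tensor.tensorMap_comp, Category.id_comp, Category.comp_id], hI', zero_comp, zero_comp]
  obtain ⟨κ₁, w₁, hS₁, hκ₁⟩ := exists_restrict_seq' I F hF
  have hη : δ ≫ eta i F = 0 := by
    refine ((Scheme.Modules.pullbackPushforwardAdjunction i).unit.naturality δ).trans ?_
    rw [Functor.comp_map, hδ, Functor.map_zero, comp_zero]
  haveI := hS₁.mono_f
  let a : F ⟶ CohB1.tensorMod F (ClSub.idealMod I) := hS₁.exact.lift δ hη
  have ha : a ≫ κ₁ = δ := hS₁.exact.lift_f δ hη
  have hδδ : δ ≫ δ = 0 := by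
    rw [← ha, Category.assoc, ← Category.assoc κ₁, hκ₁, show κ' ≫ a = 0 from ?_, zero_comp, comp_zero]
    rw [← cancel_mono κ₁, Category.assoc, ha, hκ, zero_comp]
  have hq' : q = 𝟙 F + δ := by simp [δ]
  clear_value δ
  subst hq'
  exact ⟨⟨𝟙 F - δ, by simp [Preadditive.comp_sub, Preadditive.add_comp, hδδ],
    by simp [Preadditive.sub_comp, Preadditive.comp_add, hδδ]⟩⟩

/-- Vanishing of the first Ext on the closed subscheme passes to pushforwards. -/
theorem subsingleton_ext_push [HasExt.{u} X.Modules] [HasExt.{u} X₀.Modules] {E : X.Modules}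
    (hE : FlatMod.IsFinLocFree E) (G : X₀.Modules)
    (h : Subsingleton (Abelian.Ext.{u} ((Scheme.Modules.pullback i).obj E) G 1)) :
    Subsingleton (Abelian.Ext.{u} E ((Scheme.Modules.pushforward i).obj G) 1) := by
  haveI : DCoh.HasSheafHom E := ⟨⟨_, ⟨(Groth.L16.HomSh.tensorHomAdj E).ofNatIsoLeft (Groth.L22.PDual.biIso E)⟩⟩⟩
  haveI : DCoh.HasSheafHom ((Scheme.Modules.pullback i).obj E) :=
    ⟨⟨_, ⟨(Groth.L16.HomSh.tensorHomAdj _).ofNatIsoLeft (Groth.L22.PDual.biIso _)⟩⟩⟩
  obtain ⟨e₀⟩ := Groth.Agent.S12483.result X₀ ((Scheme.Modules.pullback i).obj E) G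
    (Groth.L29.LocFree.pullback i hE) 1
  obtain ⟨e⟩ := Groth.Agent.S12483.result X E ((Scheme.Modules.pushforward i).obj G) hE 1
  have h₀ := Groth.L14.LocHilbLift.subsingleton_HH_of_iso
    ((Groth.L16.HomSh.sheafHomIso (M := (Scheme.Modules.pullback i).obj E)).app G) 1 e₀.symm.toEquiv.subsingleton
  have h₁ := Groth.L14.LocHilbLift.subsingleton_HH_push i _ 1 h₀
  exact @Equiv.subsingleton _ _ e.toEquiv (Groth.L14.LocHilbLift.subsingleton_HH_of_iso
    ((Groth.L14.LocHilbLift.pushHomIso i E).app G ≪≫
      (Groth.L16.HomSh.sheafHomIso (M := E)).symm.app ((Scheme.Modules.pushforward i).obj G)) 1 h₁)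

theorem exists_hom_extension (I : X.IdealSheafData) (hI : I ^ 2 = ⊥) {E F : X.Modules}
    (hE : FlatMod.IsFinLocFree E) (hF : FlatMod.IsFinLocFree F) [HasExt.{u} I.subscheme.Modules]
    (h1 : Subsingleton (Abelian.Ext.{u} ((Scheme.Modules.pullback I.subschemeι).obj E)
      (CohB1.tensorMod ((Scheme.Modules.pullback I.subschemeι).obj (ClSub.idealMod I))
        ((Scheme.Modules.pullback I.subschemeι).obj F)) 1))
    (v : (Scheme.Modules.pullback I.subschemeι).obj E ⟶ (Scheme.Modules.pullback I.subschemeι).obj F) :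
    ∃ u : E ⟶ F, (Scheme.Modules.pullback I.subschemeι).map u = v := by
  haveI : HasExt.{u} X.Modules := by
    haveI := Groth.L00.Tensor.grothendieckAbelian_modules X
    exact CategoryTheory.hasExt_of_enoughInjectives _
  obtain ⟨κ, w, hS⟩ := exists_restrict_seq I F (Groth.L29.DC.isFlat_of_isFinLocFree hF)
  haveI := hS.epi_g
  obtain ⟨e⟩ := nonempty_idealTerm_iso I hI F
  refine exists_hom_lift I.subschemeι κ w hS ?_ v
  have h2 := subsingleton_ext_push I.subschemeι hE _ h1
  refine subsingleton_of_forall_eq 0 fun x => ?_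
  have hx : x.comp (Abelian.Ext.mk₀ e.inv) (add_zero 1) = 0 := Subsingleton.elim _ _
  have := congrArg (fun t => Abelian.Ext.comp t (Abelian.Ext.mk₀ e.hom) (add_zero 1)) hx
  simpa using this

/-- Isomorphisms of restrictions to a square zero subscheme lift. -/
theorem nonempty_iso_of_lifts (I : X.IdealSheafData) (hI : I ^ 2 = ⊥) {E F : X.Modules}
    (hE : FlatMod.IsFinLocFree E) (hF : FlatMod.IsFinLocFree F)
    (e : (Scheme.Modules.pullback I.subschemeι).obj E ≅ (Scheme.Modules.pullback I.subschemeι).obj F)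
    (u : E ⟶ F) (hu : (Scheme.Modules.pullback I.subschemeι).map u = e.hom)
    (v : F ⟶ E) (hv : (Scheme.Modules.pullback I.subschemeι).map v = e.inv) : Nonempty (E ≅ F) := by
  haveI := isIso_of_pullback_eq_id I hI (Groth.L29.DC.isFlat_of_isFinLocFree hE) (u ≫ v)
    (by rw [Functor.map_comp, hu, hv, e.hom_inv_id])
  haveI := isIso_of_pullback_eq_id I hI (Groth.L29.DC.isFlat_of_isFinLocFree hF) (v ≫ u)
    (by rw [Functor.map_comp, hu, hv, e.inv_hom_id])
  haveI : Mono u := mono_of_mono u v
  haveI : Epi u := epi_of_epi v u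
  exact ⟨@asIso _ _ _ _ u (isIso_of_mono_of_epi u)⟩

end Groth.L12.VBLift
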