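import Groth.Agent.L12.VBLift.Seq
import Groth.Agent.L12.LineLift.System
import Groth.Agent.L17.BC.Sheaf
import Groth.Agent.L17.FinLocBases
import Mathlib.CategoryTheory.Limits.Preserves.Shapes.Biproducts

/-! Lifting along a small thickening whose kernel is free on the closed fibre. -/

set_option autoImplicit false
set_option linter.style.haveILetI false
set_option linter.unusedSectionVars false
set_option backward.isDefEq.respectTransparency.types false
set_option backward.isDefEq.respectTransparency false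

universe u

open CategoryTheory CategoryTheory.Limits AlgebraicGeometry TopologicalSpace Opposite
open scoped TensorProduct

noncomputable section

namespace Groth.L12.VBLift

open Groth.L00.Tensor (pre tensorMap tensorLeftF tensorUnitRight tensorIso tensorComm)
open Groth.L16.HomSh (hom_ext_tens tensorMap_tens)
open Groth.L18.Frame (rs ro ro_ro)
open Groth.L12.LineLift (Small app_ro')

variable {X₀ X X' : Scheme.{u}} (j : X ⟶ X') [IsClosedImmersion j]

theorem epi_unitToPush : Epi (ClSub.unitToPush j) :=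
  Groth.L17.Serre.epi_of_locally_surjective _ fun U x hx t => by
    obtain ⟨V, hV, hxV, hVU⟩ := exists_isAffineOpen_mem_and_subset (x := x) (U := U) hx
    obtain ⟨s, hs⟩ := j.app_surjective V hV ((show Γ(X, j ⁻¹ᵁ V) from
      ((Scheme.Modules.pushforward j).obj (Coh.structureModule X)).presheaf.map (homOfLE hVU).op t))
    exact ⟨V, hVU, hxV, s, hs⟩

theorem exists_restrict_seq_of_closedImmersion (F : X'.Modules) (hF : FlatMod.IsFlat F) :
    ∃ (κ : CohB1.tensorMod F (kernel (ClSub.unitToPush j)) ⟶ F) (w : κ ≫ eta j F = 0),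
      (ShortComplex.mk κ (eta j F) w).ShortExact ∧
        κ = tensorMap (𝟙 F) (kernel.ι (ClSub.unitToPush j)) ≫ (tensorUnitRight F).hom := by
  haveI := epi_unitToPush j
  haveI := Groth.L17.ChangeRings.preservesMono_tensorLeftF hF
  let T := tensorLeftF F
  let S₀ := ShortComplex.mk (kernel.ι (ClSub.unitToPush j)) (ClSub.unitToPush j) (kernel.condition _)
  have hS₀ : S₀.ShortExact := { exact := ShortComplex.exact_of_f_is_kernel _ (kernelIsKernel _) }
  haveI : T.IsLeftAdjoint := (Groth.L16.HomSh.tensorHomAdj F).isLeftAdjoint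
  haveI : T.Additive :=
    haveI := preservesBinaryBiproducts_of_preservesBinaryCoproducts T
    Functor.additive_of_preservesBinaryBiproducts _
  have hS₁ : (S₀.map T).ShortExact :=
    { exact := ShortComplex.exact_of_g_is_cokernel _ (CokernelCofork.mapIsColimit _ hS₀.gIsCokernel T)
      mono_f := T.map_mono S₀.f
      epi_g := T.map_epi (ClSub.unitToPush j) }
  haveI := Groth.L17.ClosedPush.isIso_θ j (Coh.structureModule X) F
  haveI : IsIso (Groth.L20.ResDescent.ψ j F) := by
    rw [Groth.L20.ResDescent.ψ]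
    infer_instance
  let κ : CohB1.tensorMod F (kernel (ClSub.unitToPush j)) ⟶ F :=
    tensorMap (𝟙 F) (kernel.ι (ClSub.unitToPush j)) ≫ (tensorUnitRight F).hom
  have w : κ ≫ eta j F = 0 := by
    refine (Category.assoc _ _ _).trans ?_
    rw [← ψ_restrict, ← Category.assoc]
    exact (congrArg (· ≫ Groth.L20.ResDescent.ψ j F) (S₀.map T).zero).trans zero_comp
  refine ⟨κ, w, ShortComplex.shortExact_of_iso (S₁ := S₀.map T) ?_ hS₁, rfl⟩
  exact ShortComplex.isoMk (Iso.refl _) (tensorUnitRight F) (asIso (Groth.L20.ResDescent.ψ j F))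
    ((Category.id_comp _).trans rfl) (ψ_restrict j F).symm

variable (g₀ : X₀ ⟶ X') [IsClosedImmersion g₀] {G : X₀.Modules}
  (e : (Scheme.Modules.pushforward g₀).obj G ≅ kernel (ClSub.unitToPush j))

include e in
theorem isIso_of_pullback_eq_id_closedFibre (i₀ : X₀ ⟶ X) (hi : i₀ ≫ j = g₀) {F : X'.Modules}
    (hF : FlatMod.IsFlat F) (q : F ⟶ F) (hq : (Scheme.Modules.pullback j).map q = 𝟙 _) : IsIso q := by
  haveI : (Scheme.Modules.pullback j).Additive :=
    (Scheme.Modules.pullbackPushforwardAdjunction j).left_adjoint_additive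
  haveI : (Scheme.Modules.pullback i₀).Additive :=
    (Scheme.Modules.pullbackPushforwardAdjunction i₀).left_adjoint_additive
  let δ := q - 𝟙 F
  have hδ : (Scheme.Modules.pullback j).map δ = 0 := by
    show (Scheme.Modules.pullback j).map (q - 𝟙 F) = 0
    rw [Functor.map_sub, hq, CategoryTheory.Functor.map_id]
    exact sub_self _
  have hδ₀ : (Scheme.Modules.pullback g₀).map δ = 0 := by
    let c : Scheme.Modules.pullback j ⋙ Scheme.Modules.pullback i₀ ≅ Scheme.Modules.pullback g₀ :=
      Scheme.Modules.pullbackComp i₀ j ≪≫ Scheme.Modules.pullbackCongr hi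
    rw [← cancel_epi (c.hom.app F), ← c.hom.naturality δ, Functor.comp_map, hδ, Functor.map_zero, zero_comp,
      comp_zero]
  haveI := Groth.L17.ClosedPush.isIso_θ g₀ G F
  haveI := Groth.L17.ChangeRings.preservesMono_tensorLeftF hF
  have h0 : tensorMap δ (𝟙 ((Scheme.Modules.pushforward g₀).obj G)) = 0 := by
    rw [← cancel_mono (Groth.L17.ClosedPush.θ g₀ G F), Groth.L17.ClosedPush.θ_natural g₀ G δ, zero_comp, hδ₀,
      tensorMap_zero_left, Functor.map_zero, comp_zero]
  have hK : tensorMap δ (𝟙 (kernel (ClSub.unitToPush j))) = 0 := by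
    haveI : IsIso (tensorMap (𝟙 F) e.inv) := inferInstanceAs (IsIso ((tensorLeftF F).map e.inv))
    rw [← cancel_mono (tensorMap (𝟙 F) e.inv), zero_comp, ← Groth.L00.Tensor.tensorMap_comp, Category.comp_id,
      Category.id_comp,
      show tensorMap δ e.inv = tensorMap (𝟙 F) e.inv ≫ tensorMap δ (𝟙 _) from by
        rw [← Groth.L00.Tensor.tensorMap_comp, Category.id_comp, Category.comp_id], h0, comp_zero]
  obtain ⟨κ, w, hS, hκdef⟩ := exists_restrict_seq_of_closedImmersion j F hF
  have hκ : κ ≫ δ = 0 := by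
    rw [hκdef]
    refine (Category.assoc _ _ _).trans ?_
    rw [← Groth.L20.ResDescent.tensorUnitRight_natural, ← Category.assoc, ← Groth.L00.Tensor.tensorMap_comp,
      Category.id_comp, Category.comp_id,
      show tensorMap δ (kernel.ι (ClSub.unitToPush j)) = tensorMap δ (𝟙 _) ≫ tensorMap (𝟙 F) (kernel.ι _) from by
        rw [← Groth.L00.Tensor.tensorMap_comp, Category.id_comp, Category.comp_id], hK, zero_comp, zero_comp]
  have hη : δ ≫ eta j F = 0 := by
    refine ((Scheme.Modules.pullbackPushforwardAdjunction j).unit.naturality δ).trans ?_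
    rw [Functor.comp_map, hδ, Functor.map_zero, comp_zero]
  haveI := hS.mono_f
  have hδδ : δ ≫ δ = 0 := by
    obtain ⟨a, ha⟩ : ∃ a, a ≫ κ = δ := ⟨hS.exact.lift δ hη, hS.exact.lift_f δ hη⟩
    nth_rw 1 [← ha]
    rw [Category.assoc, hκ, comp_zero]
  have hq' : q = 𝟙 F + δ := by simp [δ]
  clear_value δ
  subst hq'
  exact ⟨⟨𝟙 F - δ, by simp [Preadditive.comp_sub, Preadditive.add_comp, hδδ],
    by simp [Preadditive.sub_comp, Preadditive.comp_add, hδδ]⟩⟩

variable {j g₀}

/-- The ideal of a small thickening is free on the closed fibre. -/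
theorem nonempty_kernelIso (S : Small j g₀) :
    Nonempty ((Scheme.Modules.pushforward g₀).obj (⨁ fun _ : Fin S.r => Coh.structureModule X₀) ≅
      kernel (ClSub.unitToPush j)) := by
  haveI := epi_unitToPush g₀
  haveI : Mono (kernel.ι (ClSub.unitToPush j)) := inferInstance
  let O := Coh.structureModule X'
  let mulW : Fin S.r → (O ⟶ O) := fun l => Formal.smulModΓ O (S.w l)
  have hmul : ∀ (l : Fin S.r) (V : X'.Opens) (a : Γ(X', V)), (mulW l).app V a = ro le_top (S.w l) * a :=
    fun l V a => KLin.smulModΓ_app_apply O (S.w l) V a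
  have hw : ∀ l, mulW l ≫ ClSub.unitToPush j = 0 := fun l => by
    refine Scheme.Modules.hom_ext _ _ fun V => ?_
    ext a
    exact S.i_term V l a
  have hkill : ∀ l, kernel.ι (ClSub.unitToPush g₀) ≫ kernel.lift _ (mulW l) (hw l) = 0 := fun l => by
    rw [← cancel_mono (kernel.ι (ClSub.unitToPush j)), Category.assoc, kernel.lift_ι, zero_comp]
    refine Scheme.Modules.hom_ext _ _ fun V => ?_
    ext b
    have hb : g₀.app V ((kernel.ι (ClSub.unitToPush g₀)).app V b) = 0 :=
      congr(($(kernel.condition (ClSub.unitToPush g₀))).app V b)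
    show ro le_top (S.w l) * (show Γ(X', V) from (kernel.ι (ClSub.unitToPush g₀)).app V b) = (0 : Γ(X', V))
    refine Groth.L21.Extend.eq_of_locally (Coh.structureModule X') _ _ fun y hy => ?_
    obtain ⟨W, hW, hyW, hWV⟩ := exists_isAffineOpen_mem_and_subset (x := y) (U := V) hy
    refine ⟨W, hWV, hyW, ?_⟩
    show ro hWV (ro le_top (S.w l) * (show Γ(X', V) from (kernel.ι (ClSub.unitToPush g₀)).app V b)) = ro hWV (0 : Γ(X', V))
    refine ((map_mul (X'.presheaf.map (homOfLE hWV).op).hom _ _).trans ?_).trans (map_zero _).symm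
    show ro hWV (ro le_top (S.w l)) * _ = 0
    rw [ro_ro]
    exact S.kill W hW _ ((app_ro' g₀ hWV _).trans ((congrArg (ro (g₀.preimage_mono hWV)) hb).trans (map_zero _))) l
  let h : Fin S.r → ((Scheme.Modules.pushforward g₀).obj (Coh.structureModule X₀) ⟶ kernel (ClSub.unitToPush j)) :=
    fun l => Abelian.epiDesc (ClSub.unitToPush g₀) (kernel.lift _ (mulW l) (hw l)) (hkill l)
  let P : X'.Modules := ⨁ fun _ : Fin S.r => (Scheme.Modules.pushforward g₀).obj (Coh.structureModule X₀)
  let H : P ⟶ kernel (ClSub.unitToPush j) := biproduct.desc h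
  have happ : ∀ (l : Fin S.r) (V : X'.Opens) (a : Γ(X', V)),
      (kernel.ι (ClSub.unitToPush j)).app V ((h l).app V (g₀.app V a)) = ro le_top (S.w l) * a := fun l V a => by
    have e : (ClSub.unitToPush g₀ ≫ h l) ≫ kernel.ι (ClSub.unitToPush j) = mulW l := by
      rw [Abelian.comp_epiDesc, kernel.lift_ι]
    exact congr(($e).app V a)
  haveI : IsIso H := by
    refine Groth.L17.BC.Classes.isIso_of_affine H fun y => ⟨⊤, trivial, fun V _ hV => ?_⟩
    have hrep : ∀ x : Γ(P, V), ∃ a : Fin S.r → Γ(X', V),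
        x = ∑ l, (biproduct.ι (fun _ : Fin S.r => (Scheme.Modules.pushforward g₀).obj (Coh.structureModule X₀)) l).app V (g₀.app V (a l)) := by
      intro x
      choose a ha using fun l : Fin S.r => g₀.app_surjective V hV
        ((biproduct.π (fun _ : Fin S.r => (Scheme.Modules.pushforward g₀).obj (Coh.structureModule X₀)) l).app V x)
      refine ⟨a, ?_⟩
      conv_lhs => rw [show x = (𝟙 P : P ⟶ P).app V x from rfl, ← biproduct.total]
      rw [Groth.L17.FinLocBases.app_sum]
      exact Finset.sum_congr rfl fun l _ => by rw [ha]; rfl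
    have hH : ∀ a : Fin S.r → Γ(X', V), (kernel.ι (ClSub.unitToPush j)).app V (H.app V
        (∑ l, (biproduct.ι (fun _ : Fin S.r => (Scheme.Modules.pushforward g₀).obj (Coh.structureModule X₀)) l).app V (g₀.app V (a l)))) =
        ∑ l, ro le_top (S.w l) * a l := fun a => by
      rw [map_sum, map_sum]
      refine Finset.sum_congr rfl fun l _ => ?_
      refine Eq.trans ?_ (happ l V (a l))
      exact congrArg _ (congr(($(biproduct.ι_desc h l)).app V (g₀.app V (a l))))
    have hinj : Function.Injective ((kernel.ι (ClSub.unitToPush j)).app V) :=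
      Groth.L20.Strat.app_injective_of_mono _ V
    refine ⟨(injective_iff_map_eq_zero _).2 fun x hx => ?_, fun z => ?_⟩
    · obtain ⟨a, rfl⟩ := hrep x
      have h0 := (congrArg ((kernel.ι (ClSub.unitToPush j)).app V) hx).trans (map_zero _)
      rw [hH] at h0
      refine Finset.sum_eq_zero fun l _ => ?_
      exact (congrArg _ (S.uniq V hV a h0 l)).trans (map_zero _)
    · have hz : j.app V ((kernel.ι (ClSub.unitToPush j)).app V z) = 0 :=
        congr(($(kernel.condition (ClSub.unitToPush j))).app V z)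
      obtain ⟨a, ha⟩ := S.gen V hV _ hz
      exact ⟨_, hinj ((hH a).trans ha.symm)⟩
  haveI : (Scheme.Modules.pushforward g₀).Additive :=
    (Scheme.Modules.pullbackPushforwardAdjunction g₀).right_adjoint_additive
  exact ⟨(Scheme.Modules.pushforward g₀).mapBiproduct _ ≪≫ asIso H⟩

theorem subsingleton_ext_biproduct {C : Type*} [Category* C] [Abelian C] [HasFiniteBiproducts C] [HasExt.{u} C] {A : C} {r : ℕ}
    (B : Fin r → C) (h : ∀ l, Subsingleton (Abelian.Ext.{u} A (B l) 1)) :
    Subsingleton (Abelian.Ext.{u} A (⨁ B) 1) := by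
  refine subsingleton_of_forall_eq 0 fun x => ?_
  rw [← Abelian.Ext.comp_mk₀_id x, ← biproduct.total, Abelian.Ext.mk₀_sum, Abelian.Ext.comp_sum]
  refine Finset.sum_eq_zero fun l _ => ?_
  rw [← Abelian.Ext.mk₀_comp_mk₀, ← Abelian.Ext.comp_assoc _ _ _ (add_zero 1) (zero_add 0) (by simp),
    @Subsingleton.elim _ (h l) (x.comp (Abelian.Ext.mk₀ (biproduct.π B l)) (add_zero 1)) 0, Abelian.Ext.zero_comp]

theorem subsingleton_ext_of_iso {C : Type*} [Category* C] [Abelian C] [HasExt.{u} C] {A A' B B' : C}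
    (a : A ≅ A') (b : B ≅ B') (n : ℕ) (h : Subsingleton (Abelian.Ext.{u} A B n)) :
    Subsingleton (Abelian.Ext.{u} A' B' n) := by
  refine subsingleton_of_forall_eq 0 fun x => ?_
  have hx : (Abelian.Ext.mk₀ a.hom).comp (x.comp (Abelian.Ext.mk₀ b.inv) (add_zero n)) (zero_add n) = 0 :=
    @Subsingleton.elim _ h _ _
  have := congrArg (fun z => ((Abelian.Ext.mk₀ a.inv).comp z (zero_add n)).comp (Abelian.Ext.mk₀ b.hom)
    (add_zero n)) hx
  simpa using this

/-- Finite locally free modules on a small thickening are determined by their restriction. -/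
theorem nonempty_iso_of_small [HasExt.{u} X₀.Modules] [HasExt.{u} X'.Modules] (S : Small j g₀) (i₀ : X₀ ⟶ X)
    (hi : i₀ ≫ j = g₀) {E F : X'.Modules} (hE : FlatMod.IsFinLocFree E) (hF : FlatMod.IsFinLocFree F)
    {F₀ : X₀.Modules} (a : (Scheme.Modules.pullback g₀).obj E ≅ F₀)
    (b : (Scheme.Modules.pullback g₀).obj F ≅ F₀) (h : Subsingleton (Abelian.Ext.{u} F₀ F₀ 1))
    (e : (Scheme.Modules.pullback j).obj E ≅ (Scheme.Modules.pullback j).obj F) : Nonempty (E ≅ F) := by
  obtain ⟨κK⟩ := nonempty_kernelIso S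
  have lift : ∀ {A B : X'.Modules} (_ : FlatMod.IsFinLocFree A) (hB : FlatMod.IsFinLocFree B)
      (_ : (Scheme.Modules.pullback g₀).obj A ≅ F₀) (_ : (Scheme.Modules.pullback g₀).obj B ≅ F₀)
      (v : (Scheme.Modules.pullback j).obj A ⟶ (Scheme.Modules.pullback j).obj B),
      ∃ u : A ⟶ B, (Scheme.Modules.pullback j).map u = v := by
    intro A B hA hB a b v
    obtain ⟨κ, w, hS, -⟩ := exists_restrict_seq_of_closedImmersion j B (Groth.L29.DC.isFlat_of_isFinLocFree hB)
    haveI := hS.epi_g
    refine exists_hom_lift j κ w hS ?_ v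
    let B₀ := (Scheme.Modules.pullback g₀).obj B
    let T := tensorLeftF B₀
    haveI : T.IsLeftAdjoint := (Groth.L16.HomSh.tensorHomAdj B₀).isLeftAdjoint
    haveI : T.Additive :=
      haveI := preservesBinaryBiproducts_of_preservesBinaryCoproducts T
      Functor.additive_of_preservesBinaryBiproducts _
    have h₀ : Subsingleton (Abelian.Ext.{u} ((Scheme.Modules.pullback g₀).obj A)
        (CohB1.tensorMod B₀ (⨁ fun _ : Fin S.r => Coh.structureModule X₀)) 1) :=
      subsingleton_ext_of_iso (Iso.refl _) (T.mapBiproduct _).symm 1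
        (subsingleton_ext_biproduct _ fun _ =>
          subsingleton_ext_of_iso a.symm (b.symm ≪≫ (tensorUnitRight B₀).symm) 1 h)
    haveI := Groth.L17.ClosedPush.isIso_θ g₀ (⨁ fun _ : Fin S.r => Coh.structureModule X₀) B
    exact subsingleton_ext_of_iso (Iso.refl _)
      ((asIso (Groth.L17.ClosedPush.θ g₀ _ B)).symm ≪≫ tensorIso (Iso.refl B) κK) 1
      (subsingleton_ext_push g₀ hA _ h₀)
  obtain ⟨u, hu⟩ := lift hE hF a b e.hom
  obtain ⟨v, hv⟩ := lift hF hE b a e.inv
  haveI := isIso_of_pullback_eq_id_closedFibre j g₀ κK i₀ hi (Groth.L29.DC.isFlat_of_isFinLocFree hE) (u ≫ v)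
    (by rw [Functor.map_comp, hu, hv, e.hom_inv_id])
  haveI := isIso_of_pullback_eq_id_closedFibre j g₀ κK i₀ hi (Groth.L29.DC.isFlat_of_isFinLocFree hF) (v ≫ u)
    (by rw [Functor.map_comp, hu, hv, e.inv_hom_id])
  haveI : Mono u := mono_of_mono u v
  haveI : Epi u := epi_of_epi v u
  exact ⟨@asIso _ _ _ _ u (isIso_of_mono_of_epi u)⟩

end Groth.L12.VBLift
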